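import Cfsg.Agent.H585.BD.Card
import Cfsg.Agent.H158.DlRows
import Cfsg.Agent.H755.Dl.Lin
import Cfsg.Agent.H778.ExcMain
import Cfsg.Agent.H73.OI.InnerChev
import Cfsg.Agent.H848.OI.TwInner
import Cfsg.Agent.TitsK.Model
import Cfsg.Agent.TitsK.Inst
import Cfsg.Agent.TitsK.SheetT
import Cfsg.Agent.S2100
import Cfsg.Agent.S2101
import Cfsg.Agent.S2102
import Cfsg.Agent.S2103
import Cfsg.Agent.S2104
import Cfsg.Agent.S2105
import Cfsg.Agent.S2106
import Cfsg.Agent.S2107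
import Cfsg.Agent.S2108
import Cfsg.Agent.S2109
import Cfsg.Agent.S2110
import Cfsg.Agent.S2111
import Cfsg.Agent.S2112
import Cfsg.Agent.S2113
import Cfsg.Agent.S2114
import Cfsg.Agent.S2115

/-!
# Tame rows of S4932: exceptional groups in cross characteristic

`Tame p S` for `S` one of `G₂(q)`, `³D₄(q)`, `Ree` (every `p`), `F₄(q)`, `²F₄(q)`, `Tits`, `Sz` (`3 ≤ p`) and
`E₆(q)`, `²E₆(q)`, `E₇(q)`, `E₈(q)` (`5 ≤ p`), `p ∤ q`.
-/

set_option autoImplicit false
set_option linter.style.haveILetI false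

namespace Cfsg.Agent.H849.BD

open Cfsg Cfsg.Lie Cfsg.Agent.H246.Dl Cfsg.Agent.H589.BD Cfsg.Agent.H585.BD
open Cfsg.Agent.ChevalleyStructure Cfsg.Agent.ChevalleyStructure.Elts
open scoped commutatorElement

universe u v

section abs

variable {p : ℕ} {S : Type u} [Group S]

theorem noCover_congr {S' : Type v} [Group S'] (e : S ≃* S') (h : NoCover p S') : NoCover p S := by
  intro Y _ _ f hf
  haveI : Small.{v} Y := inferInstance
  let m : Shrink.{v} Y ≃* Y := Shrink.mulEquiv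
  haveI : Finite (Shrink.{v} Y) := Finite.of_injective m m.injective
  have h1 := h (Shrink.{v} Y) ((e.toMonoidHom.comp f).comp m.toMonoidHom) ⟨?_, ?_, ?_, ?_⟩
  · intro a b hab
    have h2 : (m.symm a : Shrink.{v} Y) = m.symm b := by
      apply h1
      change e (f (m (m.symm a))) = e (f (m (m.symm b)))
      rw [m.apply_symm_apply, m.apply_symm_apply, hab]
    exact m.symm.injective h2
  · exact (e.surjective.comp hf.surj).comp m.surjective
  · intro y hy
    have hy' : f (m y) = 1 := e.injective (by rw [map_one]; exact hy)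
    rw [Subgroup.mem_center_iff]
    intro z
    apply m.injective
    rw [map_mul, map_mul]
    exact Subgroup.mem_center_iff.1 (hf.cent _ hy') _
  · rw [eq_top_iff]
    intro y _
    have h2 : m y ∈ commutator Y := by rw [hf.perf]; trivial
    have h3 : (commutator Y).map m.symm.toMonoidHom = commutator (Shrink.{v} Y) := by
      rw [commutator_def, Subgroup.map_commutator, ← MonoidHom.range_eq_map,
        MonoidHom.range_eq_top.2 m.symm.surjective, commutator_def]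
    rw [← h3]
    exact ⟨m y, h2, m.symm_apply_apply y⟩
  · rintro ⟨y, hy⟩
    have hy' : f (m y) = 1 := e.injective (by rw [map_one]; exact hy)
    obtain ⟨k, hk⟩ := hf.pgrp ⟨m y, hy'⟩
    refine ⟨k, Subtype.ext (m.injective ?_)⟩
    have h2 : (m y) ^ p ^ k = 1 := congrArg Subtype.val hk
    change m (y ^ p ^ k) = m 1
    rw [map_pow, h2, map_one]

/-- Commutators of outer automorphisms in a subgroup of order prime to `p`. -/
theorem outAb_of_le [hp : Fact p.Prime] (N : Subgroup (Out S)) (hN : commutator (Out S) ≤ N)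
    (hc : ¬ p ∣ Nat.card N) : OutAb p S := by
  refine outAb_of_hom (QuotientGroup.mk' (Inn S)) (fun a ha => (QuotientGroup.eq_one_iff a).1 ha) ?_
  intro R hR x hx y hy
  rw [← commutatorElement_eq_one_iff_mul_comm]
  have h1 : ⁅x, y⁆ ∈ R := mul_mem (mul_mem (mul_mem hx hy) (inv_mem hx)) (inv_mem hy)
  have h2 : ⁅x, y⁆ ∈ N := hN (Subgroup.commutator_mem_commutator (Subgroup.mem_top x) (Subgroup.mem_top y))
  obtain ⟨k, hk⟩ := hR ⟨_, h1⟩
  have hk' : ⁅x, y⁆ ^ p ^ k = 1 := by simpa using congrArg Subtype.val hk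
  have h3 : ⁅x, y⁆ ^ Nat.card N = 1 := by
    have h4 : (⟨_, h2⟩ : N) ^ Nat.card N = 1 := pow_card_eq_one'
    exact congrArg Subtype.val h4
  have h5 : Nat.gcd (p ^ k) (Nat.card N) = 1 :=
    Nat.Coprime.pow_left k ((Nat.Prime.coprime_iff_not_dvd hp.out).2 hc)
  have h6 := Nat.dvd_gcd (orderOf_dvd_of_pow_eq_one hk') (orderOf_dvd_of_pow_eq_one h3)
  rw [h5, Nat.dvd_one, orderOf_eq_one_iff] at h6
  exact h6

theorem outAb_of_normal [hp : Fact p.Prime] (N : Subgroup (Out S)) [N.Normal]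
    (hN : IsCyclic (Out S ⧸ N)) (hc : ¬ p ∣ Nat.card N) : OutAb p S := by
  refine outAb_of_le N ?_ hc
  rw [commutator_def, Subgroup.commutator_le]
  intro x _ y _
  let _ := IsCyclic.commGroup (α := Out S ⧸ N)
  rw [← QuotientGroup.eq_one_iff]
  change (QuotientGroup.mk' N) ⁅x, y⁆ = 1
  rw [map_commutatorElement, commutatorElement_eq_one_iff_mul_comm]
  exact mul_comm _ _

theorem outAb_of_cycOut (h : H523.CycOut S) : OutAb p S := by
  obtain ⟨β, h⟩ := h
  refine outAb_of_comm fun x y => ?_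
  obtain ⟨a, rfl⟩ := QuotientGroup.mk'_surjective _ x
  obtain ⟨b, rfl⟩ := QuotientGroup.mk'_surjective _ y
  obtain ⟨g, k, rfl⟩ := h a
  obtain ⟨g', k', rfl⟩ := h b
  have e : ∀ s : S, (QuotientGroup.mk' (Inn S)) (MulAut.conj s) = 1 := fun s =>
    (QuotientGroup.eq_one_iff _).2 ⟨s, rfl⟩
  rw [map_mul, map_mul, e, e, one_mul, one_mul, map_zpow, map_zpow, ← zpow_add, ← zpow_add, add_comm]

theorem tame_of [Finite S] [IsSimpleGroup S] (hna : ¬ IsMulCommutative S) [hp : Fact p.Prime] {X : Type v}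
    [Group X] (e : S ≃* X) (hn : NoCover p X) (hd : DlLe p 2 S) (ho : OutAb p X) : Tame p S :=
  tame_noCover (center_simple hna) (noCover_congr e hn) hd (ho.congr e)

end abs

section rows

variable {p : ℕ} {S : Type u} [Group S] [Finite S] [IsSimpleGroup S] {F : Type} [Field F] [Fintype F]

theorem outAb_chev {D : ChevalleyDatum} (hD : InList D)
    (hD' : D ∈ [chevG2, chevB2, chevF4, chevE6, chevE7, chevE8]) {d : ℕ} [hp : Fact p.Prime] (hd : ¬ p ∣ d)
    (h : d * Nat.card (D.diagonalSubgroup F) = (Nat.card F - 1) ^ D.rank) : OutAb p ↥(D.group F) :=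
  outAb_of_le (Cfsg.Agent.H442.OutCyc.DB hD F) (Cfsg.Agent.H493.NCRow.commutator_le_DB hD hD' F) fun h1 =>
    hd (h1.trans (Cfsg.Agent.H73.OI.card_DB_dvd hD F h))

theorem not_dvd_two (h : 3 ≤ p) : ¬ p ∣ 2 := fun h1 => by
  have := Nat.le_of_dvd (by norm_num) h1
  omega

theorem not_dvd_three (h : 5 ≤ p) : ¬ p ∣ 3 := fun h1 => by
  have := Nat.le_of_dvd (by norm_num) h1
  omega

theorem not_dvd_pow_of_ne (hp : p.Prime) {r k : ℕ} (hr : r.Prime) (h : p ≠ r) : ¬ p ∣ r ^ k := fun h1 =>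
  h ((Nat.prime_dvd_prime_iff_eq hp hr).1 (hp.dvd_of_dvd_pow h1))

theorem not_dvd_one (hp : p.Prime) : ¬ p ∣ 1 := fun h => hp.one_lt.ne' (Nat.dvd_one.1 h)

/-- `G₂(q)` -/
theorem tame_G2 (hna : ¬ IsMulCommutative S) (h3 : 3 ≤ Fintype.card F) (e : S ≃* ↥(chevG2.group F))
    (hp : p.Prime) (hpF : ¬ p ∣ Fintype.card F) : Tame p S := by
  haveI : Fact p.Prime := ⟨hp⟩
  refine tame_of hna e ?_ (Cfsg.Agent.H158.DlRows.dl_G2 e hp hpF) ?_
  · rcases Nat.lt_or_ge (Fintype.card F) 5 with h5 | h5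
    · have h4 : Fintype.card F = 3 ∨ Fintype.card F = 4 := by omega
      rcases h4 with h4 | h4
      · exact noCover_of_cyclic (Cfsg.Agent.S2101.result h4) (by rwa [h4] at hpF)
      · exact noCover_of_cyclic (Cfsg.Agent.S2102.result h4) fun h6 => hpF (by
          rw [h4]
          exact h6.trans (by norm_num))
    · exact noCover_of_cyclic (Cfsg.Agent.S2100.result h5) (not_dvd_one hp)
  · exact outAb_chev (by simp [InList]) (by simp) (d := 1) (not_dvd_one hp)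
      (Cfsg.Agent.S1035.result (F := F) (q := Nat.card F) (Nat.card_eq_fintype_card (α := F)).symm (chevG2, 1) (by simp))

/-- `F₄(q)` -/
theorem tame_F4 (hna : ¬ IsMulCommutative S) (e : S ≃* ↥(chevF4.group F))
    (hp : p.Prime) (h3 : 3 ≤ p) (hpF : ¬ p ∣ Fintype.card F) : Tame p S := by
  haveI : Fact p.Prime := ⟨hp⟩
  refine tame_of hna e ?_ ((Cfsg.Agent.H158.DlRows.dl_F4 e hp hpF).2 h3) ?_
  · have h1 : 1 < Fintype.card F := Fintype.one_lt_card
    rcases Nat.lt_or_ge (Fintype.card F) 3 with h5 | h5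
    · exact noCover_of_cyclic (Cfsg.Agent.S2104.result (by omega)) (not_dvd_two h3)
    · exact noCover_of_cyclic (Cfsg.Agent.S2103.result h5) (not_dvd_one hp)
  · exact outAb_chev (by simp [InList]) (by simp) (d := 1) (not_dvd_one hp)
      (Cfsg.Agent.S1035.result (F := F) (q := Nat.card F) (Nat.card_eq_fintype_card (α := F)).symm (chevF4, 1) (by simp))

/-- `E₆(q)` -/
theorem tame_E6 (hna : ¬ IsMulCommutative S) (e : S ≃* ↥(chevE6.group F))
    (hp : p.Prime) (h5 : 5 ≤ p) (hpF : ¬ p ∣ Fintype.card F) : Tame p S := by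
  haveI : Fact p.Prime := ⟨hp⟩
  have hd : ¬ p ∣ Nat.gcd 3 (Nat.card F - 1) := fun h => not_dvd_three h5 (h.trans (Nat.gcd_dvd_left _ _))
  refine tame_of hna e ?_ ((Cfsg.Agent.H158.DlRows.dl_E6 e hp hpF).2.2 h5) ?_
  · exact noCover_of_cyclic (Cfsg.Agent.S2105.result (q := Nat.card F) (Nat.card_eq_fintype_card (α := F)).symm) hd
  · exact outAb_chev Cfsg.Agent.H70.OutE.inList_E6 (by simp) hd
      (Cfsg.Agent.S1035.result (F := F) (q := Nat.card F) (Nat.card_eq_fintype_card (α := F)).symm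
        (chevE6, Nat.gcd 3 (Nat.card F - 1)) (by simp))

/-- `E₇(q)` -/
theorem tame_E7 (hna : ¬ IsMulCommutative S) (e : S ≃* ↥(chevE7.group F))
    (hp : p.Prime) (h5 : 5 ≤ p) (hpF : ¬ p ∣ Fintype.card F) : Tame p S := by
  haveI : Fact p.Prime := ⟨hp⟩
  have hd : ¬ p ∣ Nat.gcd 2 (Nat.card F - 1) := fun h =>
    not_dvd_two (by omega) (h.trans (Nat.gcd_dvd_left _ _))
  refine tame_of hna e ?_ ((Cfsg.Agent.H158.DlRows.dl_E7 e hp hpF).2.2 h5) ?_
  · exact noCover_of_cyclic (Cfsg.Agent.S2106.result (q := Nat.card F) (Nat.card_eq_fintype_card (α := F)).symm) hd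
  · exact outAb_chev Cfsg.Agent.H70.OutE.inList_E7 (by simp) hd
      (Cfsg.Agent.S1035.result (F := F) (q := Nat.card F) (Nat.card_eq_fintype_card (α := F)).symm
        (chevE7, Nat.gcd 2 (Nat.card F - 1)) (by simp))

/-- `E₈(q)` -/
theorem tame_E8 (hna : ¬ IsMulCommutative S) (e : S ≃* ↥(chevE8.group F))
    (hp : p.Prime) (h5 : 5 ≤ p) (hpF : ¬ p ∣ Fintype.card F) : Tame p S := by
  haveI : Fact p.Prime := ⟨hp⟩
  refine tame_of hna e ?_ ((Cfsg.Agent.H158.DlRows.dl_E8 e hp hpF).2.2 h5) ?_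
  · exact noCover_of_cyclic Cfsg.Agent.S2107.result (not_dvd_one hp)
  · exact outAb_chev (by simp [InList]) (by simp) (d := 1) (not_dvd_one hp)
      (Cfsg.Agent.S1035.result (F := F) (q := Nat.card F) (Nat.card_eq_fintype_card (α := F)).symm (chevE8, 1) (by simp))

/-- `²E₆(q)` -/
theorem tame_2E6 (hna : ¬ IsMulCommutative S) {q : ℕ} (hq : IsPrimePow q) (hF : Fintype.card F = q ^ 2)
    (e : S ≃* ↥(twistedE6 F q)) (hp : p.Prime) (h5 : 5 ≤ p) (hpF : ¬ p ∣ Fintype.card F) : Tame p S := by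
  haveI : Fact p.Prime := ⟨hp⟩
  have hd : ¬ p ∣ Nat.gcd 3 (q + 1) := fun h => not_dvd_three h5 (h.trans (Nat.gcd_dvd_left _ _))
  refine tame_of hna e ?_ ((Cfsg.Agent.H158.DlRows.dl_2E6 e hp hpF).2.2 h5) ?_
  · by_cases h2 : q = 2
    · subst h2
      refine noCover_of_mult (Cfsg.Agent.S2109.result hF) ?_
      have h1 : Nat.card (Multiplicative (ZMod 3 × ZMod 2 × ZMod 2)) = 12 := by
        rw [Nat.card_congr Multiplicative.toAdd, Nat.card_prod, Nat.card_prod, Nat.card_zmod, Nat.card_zmod]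
      rw [h1]
      intro h
      have h2 : p ∣ 3 * 2 ^ 2 := h
      rcases hp.dvd_mul.1 h2 with h3 | h3
      · exact not_dvd_three h5 h3
      · exact not_dvd_two (by omega) (hp.dvd_of_dvd_pow h3)
    · exact noCover_of_cyclic (Cfsg.Agent.S2108.result hq hF h2) hd
  · obtain ⟨N, hN, hc, hcyc⟩ := Cfsg.Agent.H493.NCRow.exists_N_TwE6 hq hF
    exact outAb_of_normal N hcyc (by rwa [hc])

/-- `³D₄(q)` -/
theorem tame_3D4 (hna : ¬ IsMulCommutative S) {q : ℕ} (hq : IsPrimePow q) (hF : Fintype.card F = q ^ 3)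
    (e : S ≃* ↥(twistedD4 F q)) (hp : p.Prime) (hpF : ¬ p ∣ Fintype.card F) : Tame p S := by
  haveI : Fact p.Prime := ⟨hp⟩
  refine tame_of hna e ?_ (Cfsg.Agent.H158.DlRows.dl_3D4 hF e hp hpF) ?_
  · exact noCover_of_cyclic (Cfsg.Agent.S2110.result hq hF) (not_dvd_one hp)
  · obtain ⟨r, hchar⟩ := CharP.exists F
    obtain ⟨f, hr, hf⟩ := FiniteField.card F r
    haveI : Fact r.Prime := ⟨hr⟩
    exact outAb_of_cycOut (H523.TwD4.cycOut hq hF r)

/-- `²F₄(q)` -/
theorem tame_2F4 (hna : ¬ IsMulCommutative S) {m : ℕ} (hm : 1 ≤ m) (hF : Fintype.card F = 2 ^ (2 * m + 1))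
    (e : S ≃* ↥(twistedF4 F (2 ^ m))) (hp : p.Prime) (h3 : 3 ≤ p) : Tame p S := by
  haveI : Fact p.Prime := ⟨hp⟩
  have hI : Iso2F4 ↥(twistedF4 F (2 ^ m)) := ⟨F, inferInstance, inferInstance, m, hm, hF, ⟨MulEquiv.refl _⟩⟩
  refine tame_of hna e ?_ (Cfsg.Agent.H158.DlRows.dl_iso2F4 ⟨F, inferInstance, inferInstance, m, hm, hF, ⟨e⟩⟩ hp h3)
    (outAb_of_cycOut (H523.cycOut_twF4 hI))
  exact noCover_of_cyclic (Cfsg.Agent.S2114.result hm hF) (not_dvd_one hp)

/-- `Sz(q)` -/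
theorem tame_Sz (hna : ¬ IsMulCommutative S) {m : ℕ} (hm : 1 ≤ m) (hF : Fintype.card F = 2 ^ (2 * m + 1))
    (e : S ≃* ↥(Lie.Sz F (2 ^ (m + 1)))) (hp : p.Prime) (h3 : 3 ≤ p) : Tame p S := by
  haveI : Fact p.Prime := ⟨hp⟩
  have hI : IsoSuzuki ↥(Lie.Sz F (2 ^ (m + 1))) := ⟨F, inferInstance, inferInstance, m, hm, hF, ⟨MulEquiv.refl _⟩⟩
  refine tame_of hna e ?_ ?_ (outAb_of_cycOut (H523.cycOut_suzuki hI))
  · rcases Nat.lt_or_ge m 2 with h2 | h2
    · obtain rfl : m = 1 := by omega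
      refine noCover_of_mult (Cfsg.Agent.S2112.result (F := F) (by rw [hF]; norm_num)) ?_
      have h1 : Nat.card (Multiplicative (ZMod 2 × ZMod 2)) = 2 ^ 2 := by
        rw [Nat.card_congr Multiplicative.toAdd, Nat.card_prod, Nat.card_zmod]
        norm_num
      rw [h1]
      exact fun h => not_dvd_two h3 (hp.dvd_of_dvd_pow h)
    · exact noCover_of_cyclic (Cfsg.Agent.S2111.result h2 hF) (not_dvd_one hp)
  · have hpF : (p : F) ≠ 0 := by
      haveI : Fact (Nat.Prime 2) := ⟨Nat.prime_two⟩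
      haveI : CharP F 2 := charP_of_card_eq_prime_pow hF
      intro h0
      have := (Nat.prime_dvd_prime_iff_eq Nat.prime_two hp).1 ((CharP.cast_eq_zero_iff F 2 p).1 h0)
      omega
    have h1 := H755.Dl.DlLe_ne (p := p) (F := F) (n := 4) (G := ↥(Lie.Sz F (2 ^ (m + 1))))
      (f := e.symm.toMonoidHom) (ρ := (Lie.Sz F (2 ^ (m + 1))).subtype) hpF e.symm.surjective
      Subtype.val_injective
    refine h1.mono ?_
    have h4 : Nat.log p 4 ≤ Nat.log 3 4 := Nat.log_anti_left (by norm_num) h3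
    have h5 : Nat.log 3 4 = 1 := by decide
    omega

/-- `²G₂(q)` -/
theorem tame_Ree (hna : ¬ IsMulCommutative S) {m : ℕ} (hm : 1 ≤ m) (hF : Fintype.card F = 3 ^ (2 * m + 1))
    (e : S ≃* ↥(twistedG2 F (3 ^ m))) (hp : p.Prime) (h3 : p ≠ 3) : Tame p S := by
  haveI : Fact p.Prime := ⟨hp⟩
  have hI : IsoRee ↥(twistedG2 F (3 ^ m)) := ⟨F, inferInstance, inferInstance, m, hm, hF, ⟨MulEquiv.refl _⟩⟩
  refine tame_of hna e ?_ ?_ (outAb_of_cycOut (H523.cycOut_ree hI))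
  · exact noCover_of_cyclic (Cfsg.Agent.S2113.result hm hF) (not_dvd_one hp)
  · have hle : Cfsg.Lie.twistedG2 F (3 ^ m) ≤ Cfsg.Lie.chevG2.group F :=
      H778.Exc.genSubgroup_le_group (by simp [Cfsg.Agent.ChevalleyStructure.Elts.InList]) (Cfsg.Lie.g2Words F (3 ^ m))
    refine H158.DlRows.sub_G2 (F := F) hp ?_ ((Subgroup.inclusion hle).comp e.toMonoidHom) ?_
    · rw [hF]
      exact not_dvd_pow_of_ne hp Nat.prime_three h3
    · exact (Subgroup.inclusion_injective hle).comp e.injective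

omit [Finite S] [IsSimpleGroup S] in
theorem noCover_aux {Y : Type v} [Group Y] (hp : p.Prime) (K : Subgroup Y)
    (h : HasCyclicSchurMultiplier ↥(commutator ↥K) 1) (e : S ≃* ↥(commutator ↥K)) : NoCover p S := by
  haveI : Fact p.Prime := ⟨hp⟩
  exact noCover_congr e (noCover_of_cyclic h (not_dvd_one hp))

omit [Finite S] [IsSimpleGroup S] in
theorem outAb_aux {Y : Type v} [Group Y] (K : Subgroup Y) (h : OutAb p ↥K) (e : S ≃* ↥K) : OutAb p S :=
  OutAb.congr e h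

/-- the Tits group -/
theorem tame_Tits (hna : ¬ IsMulCommutative S) (h : IsoTits S) (hp : p.Prime) (h3 : 3 ≤ p) : Tame p S := by
  haveI : Fact p.Prime := ⟨hp⟩
  have hd := Cfsg.Agent.H158.DlRows.dl_tits h hp h3
  obtain ⟨e⟩ := h
  obtain ⟨e'⟩ := Cfsg.Agent.TitsK.exists_equiv
  have hfin : Finite Cfsg.Agent.FourTwo.Base.LL := by infer_instance
  have h1 : Nat.card (Out ↥Cfsg.Agent.TitsK.TT) ∣ 2 := Cfsg.Agent.TitsK.tdata.index_inn
  have h5 : OutPrime p ↥Cfsg.Agent.TitsK.TT := fun h2 => not_dvd_two h3 (h2.trans h1)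
  have h6 : OutAb p ↥Cfsg.Agent.TitsK.TT := h5.outAb
  have h7 : OutAb p S := outAb_aux _ h6 (e.trans e')
  exact tame_noCover (center_simple hna) (noCover_aux hp _ Cfsg.Agent.S2115.result e) hd h7

end rows

end Cfsg.Agent.H849.BD
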